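import Cfsg.Agent.H292.KB.AllBut
import Cfsg.Agent.H330.Gow

/-!
# S4884: characters of degree prime to the own characteristic are in the principal block (helper690)
-/

set_option autoImplicit false

open Cfsg

namespace Cfsg.Agent.H690.OwnD

universe u

/-- Lie type of characteristic `r` (all families, `r = 2` and the Suzuki groups included): the irreducible characters
of degree prime to `r` are in the principal `r`-block. -/
theorem mem_own {S : Type u} [Group S] [Finite S] {r : ℕ} [Fact r.Prime] (hL : IsLieTypeChar r S)
    {M : Ideal AlgInt} (hM : IsPModular r M) {χ : IrrCharacter S} (hχ : ¬ r ∣ charDegree (χ : S → ℂ)) :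
    χ ∈ principalBlock M S := by
  have hr := Fact.out (p := r.Prime)
  by_contra hcon
  have h1 := H292.KB.dz_of_not_mem hM (H330.Gow.locChar_of_lie hL) hcon
  have hs : IsSimpleGroup S := H400.LieSimple.isSimple_of_lie hL
  have h2 : r ∣ Nat.card S := H330.Gow.dvd_card (H330.Gow.hasSplit_of_ab (H716.SplitAb.hasSplitAb_of_lie hr hL))
  have h3 : 1 ≤ (Nat.card S).factorization r := (hr.dvd_iff_one_le_factorization Nat.card_pos.ne').1 h2
  exact hχ ((dvd_pow_self r (by omega)).trans h1)

/-- outside the principal block: divisible by the full power of `r` -/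
theorem dz_own {S : Type u} [Group S] [Finite S] {r : ℕ} [Fact r.Prime] (hL : IsLieTypeChar r S)
    {M : Ideal AlgInt} (hM : IsPModular r M) {χ : IrrCharacter S} (hχ : χ ∉ principalBlock M S) :
    r ^ (Nat.card S).factorization r ∣ charDegree (χ : S → ℂ) :=
  H292.KB.dz_of_not_mem hM (H330.Gow.locChar_of_lie hL) hχ

end Cfsg.Agent.H690.OwnD
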