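import Cfsg.Agent.H690.OwnD.Mem
import Cfsg.Agent.H706.PB.Defs
import Cfsg.Agent.S4613

/-!
# S4884, own characteristic: from a character to the row (helper690)

* `noOut_own` : `NoOut r S` for `S` of Lie type of characteristic `r`;
* `row_lie2`, `row_lieq` : the row from a character of the principal block at the OTHER prime of degree prime to `2 q`.
-/

set_option autoImplicit false

open Cfsg

namespace Cfsg.Agent.H690.OwnD

open Cfsg.Agent.H706.PB

universe u

variable {S : Type u} [Group S] [Finite S]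

theorem noOut_own {r : ℕ} [hr : Fact r.Prime] (hL : IsLieTypeChar r S) : NoOut r S := by
  rintro a ha ⟨P, hP⟩
  have hs : IsSimpleGroup S := H400.LieSimple.isSimple_of_lie hL
  have h1 : a = 1 := S4613.result r hL a ha P hP
  rw [h1]
  exact one_mem _

/-- **own characteristic 2** : a nontrivial character of degree prime to `2 q` in the principal `q`-block suffices -/
theorem row_lie2 {q : ℕ} [Fact q.Prime] (hL : IsLieTypeChar 2 S)
    (h : ∀ M : Ideal AlgInt, IsPModular q M → ∃ θ : IrrCharacter S, θ ∈ principalBlock M S ∧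
      (θ : S → ℂ) ≠ (fun _ => (1 : ℂ)) ∧ ¬ 2 ∣ charDegree (θ : S → ℂ) ∧ ¬ q ∣ charDegree (θ : S → ℂ)) : Row q S := by
  have : Fact (Nat.Prime 2) := ⟨Nat.prime_two⟩
  refine Or.inr ⟨fun M2 Mq hM2 hMq => ?_, Or.inl (noOut_own hL)⟩
  obtain ⟨θ, h1, h2, h3, h4⟩ := h Mq hMq
  exact ⟨θ, mem_own hL hM2 h3, h1, h2, h3, h4⟩

/-- **own characteristic `q`** : a nontrivial character of degree prime to `2 q` in the principal `2`-block suffices -/
theorem row_lieq {q : ℕ} [Fact q.Prime] (hL : IsLieTypeChar q S)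
    (h : ∀ M : Ideal AlgInt, IsPModular 2 M → ∃ θ : IrrCharacter S, θ ∈ principalBlock M S ∧
      (θ : S → ℂ) ≠ (fun _ => (1 : ℂ)) ∧ ¬ 2 ∣ charDegree (θ : S → ℂ) ∧ ¬ q ∣ charDegree (θ : S → ℂ)) : Row q S := by
  refine Or.inr ⟨fun M2 Mq hM2 hMq => ?_, Or.inr (noOut_own hL)⟩
  obtain ⟨θ, h1, h2, h3, h4⟩ := h M2 hM2
  exact ⟨θ, h1, mem_own hL hMq h4, h2, h3, h4⟩

end Cfsg.Agent.H690.OwnD
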